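import Cfsg.Agent.CosetEnum.Cox
import Cfsg.Prelude.Def_Spor_Suz

set_option autoImplicit false

/-! The presentation of `Cfsg.Spor.Suz` in the form used by the coset-enumeration checker. -/

namespace CfsgLib.CosetEnum.Suz

open Cfsg.Spor

/-- Letters as generators. -/
def en : ℕ → Suz.Gen
  | 0 => .a
  | 1 => .b
  | 2 => .c
  | 3 => .d
  | 4 => .e
  | 5 => .f
  | _ => .g

/-- Generators as letters. -/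
def ix : Suz.Gen → ℕ
  | .a => 0
  | .b => 1
  | .c => 2
  | .d => 3
  | .e => 4
  | .f => 5
  | .g => 6

/-- The extra relators as words. -/
def exW : List (List ℕ) := [
  [0, 3, 2, 3, 2, 3, 2, 3, 2],
  [0, 6, 5, 6, 5],
  [0, 1, 2, 5, 0, 1, 2, 5, 0, 1, 2, 5, 0, 1, 2, 5, 0, 1, 2, 5],
  [1, 5, 6, 1, 5, 6, 1, 5, 6, 1, 5, 6, 1, 5, 6],
  [1, 2, 3, 2, 3, 1, 2, 3, 2, 3, 1, 2, 3, 2, 3, 1, 2, 3, 2, 3, 1, 2, 3, 2, 3, 4, 1, 2, 3, 2, 3, 1, 2, 3, 2, 3, 1, 2, 3, 2, 3, 1, 2, 3, 2, 3, 1, 2, 3, 2, 3, 4, 1, 2, 3, 2, 3, 1, 2, 3, 2, 3, 1, 2, 3, 2, 3, 1, 2, 3, 2, 3, 1, 2, 3, 2, 3, 4]]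

/-- All relators as words. -/
def words : List (List ℕ) := [
  [0, 0],
  [0, 1, 0, 1, 0, 1, 0, 1, 0, 1],
  [0, 2, 0, 2],
  [0, 3, 0, 3],
  [0, 4, 0, 4],
  [0, 5, 0, 5],
  [0, 6, 0, 6],
  [1, 1],
  [1, 2, 1, 2, 1, 2],
  [1, 3, 1, 3],
  [1, 4, 1, 4],
  [1, 5, 1, 5, 1, 5],
  [1, 6, 1, 6, 1, 6],
  [2, 2],
  [2, 3, 2, 3, 2, 3, 2, 3, 2, 3, 2, 3, 2, 3, 2, 3],
  [2, 4, 2, 4],
  [2, 5, 2, 5],
  [2, 6, 2, 6],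
  [3, 3],
  [3, 4, 3, 4, 3, 4],
  [3, 5, 3, 5],
  [3, 6, 3, 6],
  [4, 4],
  [4, 5, 4, 5],
  [4, 6, 4, 6],
  [5, 5],
  [5, 6, 5, 6, 5, 6, 5, 6],
  [6, 6],
  [0, 3, 2, 3, 2, 3, 2, 3, 2],
  [0, 6, 5, 6, 5],
  [0, 1, 2, 5, 0, 1, 2, 5, 0, 1, 2, 5, 0, 1, 2, 5, 0, 1, 2, 5],
  [1, 5, 6, 1, 5, 6, 1, 5, 6, 1, 5, 6, 1, 5, 6],
  [1, 2, 3, 2, 3, 1, 2, 3, 2, 3, 1, 2, 3, 2, 3, 1, 2, 3, 2, 3, 1, 2, 3, 2, 3, 4, 1, 2, 3, 2, 3, 1, 2, 3, 2, 3, 1, 2, 3, 2, 3, 1, 2, 3, 2, 3, 1, 2, 3, 2, 3, 4, 1, 2, 3, 2, 3, 1, 2, 3, 2, 3, 1, 2, 3, 2, 3, 1, 2, 3, 2, 3, 1, 2, 3, 2, 3, 4]]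

theorem exW_eq (K : Type) [Group K] (f : Suz.Gen → K) (hf : ∀ a, f a * f a = 1) :
    Suz.extra.map (FreeGroup.lift f) = exW.map (prodw (f ∘ en)) := by
  have hi : ∀ a, (f a)⁻¹ = f a := fun a => inv_eq_of_mul_eq_one_right (hf a)
  simp [Suz.extra, exW, prodw, en, hi, pow_succ, mul_assoc]

/-- The setup. -/
noncomputable def setup : Setup Suz.Gen where
  edges := Suz.edges
  extra := Suz.extra
  k := 7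
  en := en
  ix := ix
  exW := exW
  words := words
  en_ix := fun a => by cases a <;> rfl
  ix_lt := fun a => by cases a <;> decide
  ix_en := fun x hx => by interval_cases x <;> rfl
  node := fun a => by cases a <;> decide
  exW_eq := fun K _ f hf => exW_eq K f hf
  words_eq := by decide +kernel
  exW_lt := by decide +kernel

end CfsgLib.CosetEnum.Suz
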